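import Cfsg.Agent.H141.Rg.Act

/-!
# S5714, C9: the primary components of `X - 1` and `X + 1` (helper75)
-/

set_option autoImplicit false

namespace Cfsg.Agent.H75.RG

open Polynomial Module Cfsg.Agent.H141.Rg

section ker

variable {K V : Type*} [Field K] [AddCommGroup V] [Module K V]

theorem ker_pow_mono (N : V →ₗ[K] V) {i j : ℕ} (h : i ≤ j) : LinearMap.ker (N ^ i) ≤ LinearMap.ker (N ^ j) := by
  intro v hv
  rw [LinearMap.mem_ker] at hv ⊢
  obtain ⟨k, rfl⟩ := Nat.exists_eq_add_of_le h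
  rw [add_comm, pow_add, Module.End.mul_apply, hv, map_zero]

theorem le_finrank [FiniteDimensional K V] {N : V →ₗ[K] V} {j : ℕ} {v : V} (h1 : (N ^ (j + 1)) v = 0)
    (h2 : (N ^ j) v ≠ 0) : ∀ i ≤ j, i ≤ finrank K (LinearMap.ker (N ^ i)) := by
  intro i
  induction i with
  | zero => intro _; exact Nat.zero_le _
  | succ i ih =>
    intro hi
    have h3 := ih (by omega)
    have h4 : LinearMap.ker (N ^ i) < LinearMap.ker (N ^ (i + 1)) := by
      refine lt_of_le_of_ne (ker_pow_mono N (Nat.le_succ i)) (fun h => ?_)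
      have h5 : (N ^ (j - i)) v ∈ LinearMap.ker (N ^ (i + 1)) := by
        rw [LinearMap.mem_ker, ← Module.End.mul_apply, ← pow_add, show i + 1 + (j - i) = j + 1 by omega]
        exact h1
      rw [← h, LinearMap.mem_ker, ← Module.End.mul_apply, ← pow_add, show i + (j - i) = j by omega] at h5
      exact h2 h5
    have h5 := Submodule.finrank_lt_finrank_of_lt h4
    omega

/-- vectors with annihilator a power of `X - a` -/
theorem ann_iff (y : V →ₗ[K] V) (v : V) (a : K) (j : ℕ) : Ann y v ((X - C a) ^ (j + 1)) ↔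
    (aeval y (X - C a) ^ (j + 1)) v = 0 ∧ (aeval y (X - C a) ^ j) v ≠ 0 := by
  have hprime : Prime (X - C a : K[X]) := (irreducible_X_sub_C a).prime
  constructor
  · intro h
    refine ⟨?_, fun h0 => ?_⟩
    · rw [← map_pow]
      exact (h _).2 dvd_rfl
    · rw [← map_pow] at h0
      have h1 := (h _).1 h0
      have h2 := (pow_dvd_pow_iff hprime.ne_zero hprime.not_isUnit).1 h1
      omega
  · rintro ⟨h1, h2⟩ f
    constructor
    · intro hf
      classical
      obtain ⟨d, hd⟩ : ∃ d, d = EuclideanDomain.gcd f ((X - C a) ^ (j + 1)) := ⟨_, rfl⟩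
      have h3 : aeval y d v = 0 := by
        rw [hd, EuclideanDomain.gcd_eq_gcd_ab, mul_comm f, mul_comm ((X - C a) ^ (j + 1)), map_add, map_mul, map_mul,
          LinearMap.add_apply, Module.End.mul_apply, Module.End.mul_apply, hf,
          map_pow, h1, map_zero, map_zero, add_zero]
      have h4 : d ∣ (X - C a) ^ (j + 1) := by rw [hd]; exact EuclideanDomain.gcd_dvd_right _ _
      obtain ⟨i, hi, hdi⟩ := (dvd_prime_pow hprime _).1 h4
      have h5 : i = j + 1 := by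
        by_contra hne
        apply h2
        have h6 : d ∣ (X - C a) ^ j := hdi.dvd.trans (pow_dvd_pow _ (by omega))
        obtain ⟨e, he⟩ := h6
        rw [← map_pow, he, mul_comm, map_mul, Module.End.mul_apply, h3, map_zero]
      rw [h5] at hdi
      exact hdi.symm.dvd.trans (by rw [hd]; exact EuclideanDomain.gcd_dvd_left _ _)
    · rintro ⟨e, rfl⟩
      rw [mul_comm, map_mul, Module.End.mul_apply, map_pow, h1, map_zero]

end ker

section count

variable {K V : Type*} [Field K] [Finite K] [AddCommGroup V] [Module K V] [Finite V]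

omit [Finite K] in
theorem finDim : FiniteDimensional K V := Module.Finite.of_finite

omit [Finite K] in
/-- number of the vectors -/
theorem card_ann (y : V →ₗ[K] V) (a : K) (j : ℕ) :
    Nat.card {v : V // Ann y v ((X - C a) ^ (j + 1))} + Nat.card K ^ finrank K (LinearMap.ker (aeval y (X - C a) ^ j)) =
      Nat.card K ^ finrank K (LinearMap.ker (aeval y (X - C a) ^ (j + 1))) := by
  classical
  obtain ⟨N, hN⟩ : ∃ N, N = aeval y (X - C a) := ⟨_, rfl⟩
  have h1 : ∀ i, Nat.card (LinearMap.ker (N ^ i)) = Nat.card K ^ finrank K (LinearMap.ker (N ^ i)) := by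
    intro i
    have := finDim (K := K) (V := LinearMap.ker (N ^ i))
    exact Module.natCard_eq_pow_finrank
  rw [← hN, ← h1, ← h1]
  have h2 : Nat.card {v : V // Ann y v ((X - C a) ^ (j + 1))} =
      Nat.card {v : V // v ∈ LinearMap.ker (N ^ (j + 1)) ∧ ¬ v ∈ LinearMap.ker (N ^ j)} := by
    refine Nat.card_congr (Equiv.subtypeEquivRight fun v => ?_)
    rw [ann_iff, ← hN, LinearMap.mem_ker, LinearMap.mem_ker]
  rw [h2]
  have h3 : Nat.card (LinearMap.ker (N ^ (j + 1))) =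
      Nat.card {v : V // v ∈ LinearMap.ker (N ^ (j + 1)) ∧ ¬ v ∈ LinearMap.ker (N ^ j)} +
      Nat.card {v : V // v ∈ LinearMap.ker (N ^ (j + 1)) ∧ v ∈ LinearMap.ker (N ^ j)} := by
    have := Fintype.ofFinite V
    rw [Nat.card_eq_fintype_card, Nat.card_eq_fintype_card, Nat.card_eq_fintype_card, Fintype.card_subtype,
      Fintype.card_subtype, Fintype.card_subtype, add_comm (Finset.card _)]
    rw [← Finset.card_filter_add_card_filter_not (s := Finset.univ.filter fun v => v ∈ LinearMap.ker (N ^ (j + 1)))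
      (fun v => v ∈ LinearMap.ker (N ^ j)), Finset.filter_filter, Finset.filter_filter]
  have h4 : Nat.card {v : V // v ∈ LinearMap.ker (N ^ (j + 1)) ∧ v ∈ LinearMap.ker (N ^ j)} =
      Nat.card (LinearMap.ker (N ^ j)) :=
    Nat.card_congr (Equiv.subtypeEquivRight fun v => ⟨fun h => h.2, fun h => ⟨ker_pow_mono N (Nat.le_succ j) h, h⟩⟩)
  rw [h3, h4]

/-- dimensions of the kernels of the powers of `y - a` -/
noncomputable def dk (y : V →ₗ[K] V) (a : K) (j : ℕ) : ℕ := finrank K (LinearMap.ker (aeval y (X - C a) ^ j))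

omit [Finite K] in
theorem dk_mono (y : V →ₗ[K] V) (a : K) {i j : ℕ} (h : i ≤ j) : dk y a i ≤ dk y a j := by
  have := finDim (K := K) (V := V)
  exact Submodule.finrank_mono (ker_pow_mono _ h)

omit [Finite K] [Finite V] in
theorem dk_zero (y : V →ₗ[K] V) (a : K) : dk y a 0 = 0 := by
  rw [dk, pow_zero, Module.End.one_eq_id, LinearMap.ker_id, finrank_bot]

theorem count_ge (y : V →ₗ[K] V) (a : K) (j : ℕ) :
    (Nat.card K : ℝ) ^ j * ((Nat.card K : ℝ) ^ (dk y a (j + 1) - dk y a j) - 1) ≤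
      Nat.card {v : V // Ann y v ((X - C a) ^ (j + 1))} := by
  have hfd := finDim (K := K) (V := V)
  have h1 := card_ann y a j
  change _ + Nat.card K ^ dk y a j = Nat.card K ^ dk y a (j + 1) at h1
  have h2 : ((Nat.card {v : V // Ann y v ((X - C a) ^ (j + 1))} : ℕ) : ℝ) =
      (Nat.card K : ℝ) ^ dk y a (j + 1) - (Nat.card K : ℝ) ^ dk y a j := by
    have : ((Nat.card {v : V // Ann y v ((X - C a) ^ (j + 1))} + Nat.card K ^ dk y a j : ℕ) : ℝ) =
      ((Nat.card K ^ dk y a (j + 1) : ℕ) : ℝ) := by rw [h1]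
    push_cast at this
    linarith
  have h3 : (1 : ℝ) ≤ Nat.card K := by exact_mod_cast Nat.card_pos (α := K)
  obtain ⟨l, hl⟩ := Nat.exists_eq_add_of_le (dk_mono y a (Nat.le_succ j))
  have hl' : dk y a (j + 1) = dk y a j + l := hl
  rw [h2, hl', Nat.add_sub_cancel_left, pow_add]
  rcases Nat.eq_zero_or_pos l with rfl | hpos
  · rw [pow_zero]; simp
  · have h4 : j ≤ dk y a j := by
      have h5 : LinearMap.ker (aeval y (X - C a) ^ j) < LinearMap.ker (aeval y (X - C a) ^ (j + 1)) := by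
        refine lt_of_le_of_ne (ker_pow_mono _ (Nat.le_succ j)) (fun h => ?_)
        have h6 : dk y a j = dk y a (j + 1) := by
          unfold dk
          rw [h]
        omega
      obtain ⟨v, hv1, hv2⟩ := SetLike.exists_of_lt h5
      exact le_finrank hv1 hv2 j le_rfl
    have h5 : (1 : ℝ) ≤ (Nat.card K : ℝ) ^ l := one_le_pow₀ h3
    have h6 : (Nat.card K : ℝ) ^ j ≤ (Nat.card K : ℝ) ^ dk y a j := pow_le_pow_right₀ h3 h4
    nlinarith

/-- the primary component -/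
noncomputable def prim (y : V →ₗ[K] V) (a : K) : Submodule K V := ⨆ j : ℕ, LinearMap.ker (aeval y ((X - C a) ^ j))

omit [Finite K] in
theorem finrank_prim (y : V →ₗ[K] V) (a : K) : finrank K (prim y a) =
    ∑ j ∈ Finset.range (finrank K V), (dk y a (j + 1) - dk y a j) := by
  have hfd := finDim (K := K) (V := V)
  have h1 : prim y a = LinearMap.ker (aeval y (X - C a) ^ finrank K V) := by
    apply le_antisymm
    · refine iSup_le fun j => ?_
      rw [map_pow]
      rcases le_total j (finrank K V) with h | h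
      · exact ker_pow_mono _ h
      · rw [Module.End.ker_pow_eq_ker_pow_finrank_of_le h]
    · refine le_trans ?_ (le_iSup _ (finrank K V))
      rw [map_pow]
  have h2 : ∀ n, ∑ j ∈ Finset.range n, (dk y a (j + 1) - dk y a j) = dk y a n := by
    intro n
    induction n with
    | zero => rw [Finset.sum_range_zero, dk_zero]
    | succ n ih =>
      rw [Finset.sum_range_succ, ih]
      have := dk_mono y a (Nat.le_succ n)
      have h3 : n.succ = n + 1 := rfl
      rw [h3] at this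
      omega
  rw [h2, h1]
  rfl

end count

section main

variable {K V X : Type} [Field K] [Finite K] [AddCommGroup V] [Module K V] [Finite V] [Group X] [Finite X]

omit [Finite K] [Finite X] in
theorem card_pairs [Fintype X] (τ : X →* (V →ₗ[K] V)) (g : K[X]) :
    (Nat.card {p : X × V // Ann (τ p.1) p.2 g} : ℝ) = ∑ x : X, (Nat.card {v : V // Ann (τ x) v g} : ℝ) := by
  rw [Nat.card_congr (Equiv.subtypeProdEquivSigmaSubtype (fun (x : X) (v : V) => Ann (τ x) v g)), Nat.card_sigma]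
  push_cast
  rfl

omit [Finite X] in
/-- the basic inequality -/
theorem sum_ge [Fintype X] (τ : X →* (V →ₗ[K] V)) (a : K) (j : ℕ) :
    (Nat.card K : ℝ) ^ j * ∑ x : X, ((Nat.card K : ℝ) ^ (dk (τ x) a (j + 1) - dk (τ x) a j) - 1) ≤
      (Nat.card {p : X × V // Ann (τ p.1) p.2 ((Polynomial.X - C a) ^ (j + 1))} : ℝ) := by
  rw [card_pairs, Finset.mul_sum]
  exact Finset.sum_le_sum fun x _ => count_ge (τ x) a j

end main

/-! ### numerical lemmas -/

theorem num_lin {Q : ℝ} (hQ : 2 ≤ Q) (l : ℕ) : (l : ℝ) ≤ Q ^ l - 1 := by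
  have h1 := one_add_mul_sub_le_pow (a := Q) (by linarith) l
  have h2 : (l : ℝ) * 1 ≤ l * (Q - 1) := mul_le_mul_of_nonneg_left (by linarith) (Nat.cast_nonneg l)
  linarith

theorem num_small {Q : ℝ} (hQ : 2 ≤ Q) (l : ℕ) : (l : ℝ) ≤ 5 + (Q ^ l - 1) / Q ^ 2 := by
  have h0 : (0 : ℝ) < Q ^ 2 := by positivity
  rcases le_total l 5 with h | h
  · have h1 : (0 : ℝ) ≤ (Q ^ l - 1) / Q ^ 2 := div_nonneg (by have := one_le_pow₀ (n := l) (show 1 ≤ Q by linarith); linarith) h0.le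
    have h2 : (l : ℝ) ≤ 5 := by exact_mod_cast h
    linarith
  · obtain ⟨m, rfl⟩ := Nat.exists_eq_add_of_le (show 2 ≤ l by omega)
    have h1 := num_lin hQ m
    have h2 : (Q ^ (2 + m) - 1) / Q ^ 2 = Q ^ m - 1 / Q ^ 2 := by
      rw [pow_add]
      field_simp
    have h3 : 1 / Q ^ 2 ≤ 1 := by
      rw [div_le_one h0]
      exact one_le_pow₀ (by linarith)
    rw [h2]
    push_cast
    linarith

theorem geom_le (m : ℕ) : ∑ i ∈ Finset.range m, (5 / 7 : ℝ) ^ i ≤ 7 / 2 - 7 / 2 * (5 / 7 : ℝ) ^ m := by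
  induction m with
  | zero => norm_num
  | succ m ih =>
    rw [Finset.sum_range_succ, pow_succ]
    linarith

section main

variable {K V X : Type} [Field K] [Finite K] [AddCommGroup V] [Module K V] [Finite V] [Group X] [Finite X]

/-- small exponents -/
theorem part_small [Fintype X] (τ : X →* (V →ₗ[K] V)) {c : ℕ → ℝ} {c1 : ℝ} (h1 : 1 ≤ c1) (h : ELpm τ c) {a : K}
    (ha : a = 1 ∨ a = -1) {j : ℕ} (hc : c (j + 1) ≤ c1) :
    ∑ x : X, ((dk (τ x) a (j + 1) - dk (τ x) a j : ℕ) : ℝ) ≤ 6 * c1 * Nat.card X := by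
  obtain ⟨Q, hQ⟩ : ∃ Q : ℝ, Q = Nat.card K := ⟨_, rfl⟩
  have hQ2 : 2 ≤ Q := by
    rw [hQ]
    exact_mod_cast Finite.one_lt_card (α := K)
  have hX : (0 : ℝ) ≤ Nat.card X := Nat.cast_nonneg _
  have h2 := (sum_ge τ a j).trans (h (j + 1) a (by omega) ha)
  rw [← hQ] at h2
  obtain ⟨S, hS⟩ : ∃ S, S = ∑ x : X, (Q ^ (dk (τ x) a (j + 1) - dk (τ x) a j) - 1) := ⟨_, rfl⟩
  rw [← hS] at h2
  have h3 : Real.sqrt (Q ^ (j + 1)) ≤ Q ^ (j + 1) := by
    rw [Real.sqrt_le_left (by positivity)]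
    have h4 : (1 : ℝ) ≤ Q ^ (j + 1) := one_le_pow₀ (by linarith)
    nlinarith
  have hs0 : 0 ≤ Real.sqrt (Q ^ (j + 1)) := Real.sqrt_nonneg _
  have hQ0 : 0 < Q := by linarith
  have h4 : Q ^ j * S ≤ Q ^ j * (c1 * Q ^ 2 * Nat.card X) := by
    calc Q ^ j * S ≤ c (j + 1) * (Q * Real.sqrt (Q ^ (j + 1))) * Nat.card X := h2
      _ ≤ c1 * (Q * Real.sqrt (Q ^ (j + 1))) * Nat.card X := by
          apply mul_le_mul_of_nonneg_right _ hX
          exact mul_le_mul_of_nonneg_right hc (by positivity)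
      _ ≤ c1 * (Q * Q ^ (j + 1)) * Nat.card X := by
          apply mul_le_mul_of_nonneg_right _ hX
          exact mul_le_mul_of_nonneg_left (mul_le_mul_of_nonneg_left h3 hQ0.le) (by linarith)
      _ = Q ^ j * (c1 * Q ^ 2 * Nat.card X) := by ring
  have h5 : S ≤ c1 * Q ^ 2 * Nat.card X := le_of_mul_le_mul_left h4 (by positivity)
  have h6 : ∑ x : X, ((dk (τ x) a (j + 1) - dk (τ x) a j : ℕ) : ℝ) ≤ ∑ x : X, (5 +
      (Q ^ (dk (τ x) a (j + 1) - dk (τ x) a j) - 1) / Q ^ 2) := Finset.sum_le_sum fun x _ => num_small hQ2 _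
  have h7 : ∑ x : X, (5 + (Q ^ (dk (τ x) a (j + 1) - dk (τ x) a j) - 1) / Q ^ 2) = 5 * Nat.card X + S / Q ^ 2 := by
    rw [Finset.sum_add_distrib, ← Finset.sum_div, ← hS, Finset.sum_const, Finset.card_univ, Nat.card_eq_fintype_card,
      nsmul_eq_mul, mul_comm]
  have h8 : S / Q ^ 2 ≤ c1 * Nat.card X := by
    rw [div_le_iff₀ (by positivity)]
    linarith
  have h9 : 5 * (Nat.card X : ℝ) ≤ 5 * c1 * Nat.card X := mul_le_mul_of_nonneg_right (by linarith) hX
  linarith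

/-- large exponents -/
theorem part_large [Fintype X] (τ : X →* (V →ₗ[K] V)) {c : ℕ → ℝ} {c1 : ℝ} (h1 : 1 ≤ c1) (h : ELpm τ c) {a : K}
    (ha : a = 1 ∨ a = -1) {i : ℕ} (hc : c (i + 5) ≤ c1 ∨ (3 ≤ i ∧ c (i + 5) ≤ c1 * Nat.card K)) :
    ∑ x : X, ((dk (τ x) a (4 + i + 1) - dk (τ x) a (4 + i) : ℕ) : ℝ) ≤ 3 * c1 * (5 / 7 : ℝ) ^ i * Nat.card X := by
  obtain ⟨Q, hQ⟩ : ∃ Q : ℝ, Q = Nat.card K := ⟨_, rfl⟩
  have hQ2 : 2 ≤ Q := by
    rw [hQ]
    exact_mod_cast Finite.one_lt_card (α := K)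
  have hX : (0 : ℝ) ≤ Nat.card X := Nat.cast_nonneg _
  have hQ0 : 0 < Q := by linarith
  obtain ⟨s, hs⟩ : ∃ s, s = Real.sqrt Q := ⟨_, rfl⟩
  have hs0 : 0 < s := by rw [hs]; exact Real.sqrt_pos.2 hQ0
  have hs2 : s ^ 2 = Q := by rw [hs]; exact Real.sq_sqrt hQ0.le
  have h2 := (sum_ge τ a (4 + i)).trans (h (4 + i + 1) a (by omega) ha)
  rw [← hQ] at h2
  have hsq : Real.sqrt (Q ^ (4 + i + 1)) = s ^ (i + 5) := by
    rw [← hs2, ← pow_mul, mul_comm 2, pow_mul, Real.sqrt_sq (by positivity)]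
    congr 1
    omega
  obtain ⟨T, hT⟩ : ∃ T, T = ∑ x : X, ((dk (τ x) a (4 + i + 1) - dk (τ x) a (4 + i) : ℕ) : ℝ) := ⟨_, rfl⟩
  rw [← hT]
  have h3 : T ≤ ∑ x : X, (Q ^ (dk (τ x) a (4 + i + 1) - dk (τ x) a (4 + i)) - 1) := by
    rw [hT]
    exact Finset.sum_le_sum fun x _ => num_lin hQ2 _
  have h4 : s ^ (i + 7) * (s ^ (i + 1) * T) ≤ s ^ (i + 7) * (c (i + 5) * Nat.card X) := by
    calc s ^ (i + 7) * (s ^ (i + 1) * T) = Q ^ (4 + i) * T := by rw [← hs2]; ring
      _ ≤ Q ^ (4 + i) * _ := mul_le_mul_of_nonneg_left h3 (by positivity)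
      _ ≤ _ := h2
      _ = s ^ (i + 7) * (c (i + 5) * Nat.card X) := by
          rw [hsq, show 4 + i + 1 = i + 5 by omega, ← hs2]; ring
  have h5 : s ^ (i + 1) * T ≤ c (i + 5) * Nat.card X := le_of_mul_le_mul_left h4 (by positivity)
  have hr : (7 / 5 : ℝ) ≤ s := by
    rw [hs]
    apply Real.le_sqrt_of_sq_le
    norm_num
    linarith
  have hr' : ∀ k : ℕ, 1 ≤ (5 / 7 : ℝ) ^ k * s ^ k := by
    intro k
    rw [← mul_pow]
    apply one_le_pow₀
    linarith
  have hc0 : 0 ≤ c1 * (Nat.card X : ℝ) := mul_nonneg (by linarith) hX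
  rcases hc with hc | ⟨hi, hc⟩
  · have h6 : s ^ (i + 1) * T ≤ s ^ (i + 1) * (3 * c1 * (5 / 7 : ℝ) ^ i * Nat.card X) := by
      calc s ^ (i + 1) * T ≤ c (i + 5) * Nat.card X := h5
        _ ≤ c1 * Nat.card X := mul_le_mul_of_nonneg_right hc hX
        _ = (c1 * Nat.card X) * 1 := by ring
        _ ≤ (c1 * Nat.card X) * ((5 / 7 : ℝ) ^ (i + 1) * s ^ (i + 1)) := mul_le_mul_of_nonneg_left (hr' (i + 1)) hc0
        _ ≤ (c1 * Nat.card X) * ((3 * (5 / 7 : ℝ) ^ i) * s ^ (i + 1)) := by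
            apply mul_le_mul_of_nonneg_left _ hc0
            apply mul_le_mul_of_nonneg_right _ (by positivity)
            rw [pow_succ]
            have : (0 : ℝ) ≤ (5 / 7 : ℝ) ^ i := by positivity
            linarith
        _ = _ := by ring
    exact le_of_mul_le_mul_left h6 (by positivity)
  · obtain ⟨k, rfl⟩ := Nat.exists_eq_add_of_le (show 1 ≤ i by omega)
    rw [← hQ] at hc
    have h6 : s ^ (1 + k + 1) * T ≤ s ^ (1 + k + 1) * (3 * c1 * (5 / 7 : ℝ) ^ (1 + k) * Nat.card X) := by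
      calc s ^ (1 + k + 1) * T ≤ c (1 + k + 5) * Nat.card X := h5
        _ ≤ c1 * Q * Nat.card X := mul_le_mul_of_nonneg_right hc hX
        _ = (c1 * Nat.card X) * (s ^ 2 * 1) := by rw [hs2]; ring
        _ ≤ (c1 * Nat.card X) * (s ^ 2 * ((5 / 7 : ℝ) ^ k * s ^ k)) := by
            apply mul_le_mul_of_nonneg_left _ hc0
            exact mul_le_mul_of_nonneg_left (hr' k) (by positivity)
        _ ≤ (c1 * Nat.card X) * (s ^ 2 * ((3 * (5 / 7 : ℝ) ^ (1 + k)) * s ^ k)) := by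
            apply mul_le_mul_of_nonneg_left _ hc0
            apply mul_le_mul_of_nonneg_left _ (by positivity)
            apply mul_le_mul_of_nonneg_right _ (by positivity)
            rw [pow_add]
            have : (0 : ℝ) ≤ (5 / 7 : ℝ) ^ k := by positivity
            linarith
        _ = _ := by ring
    exact le_of_mul_le_mul_left h6 (by positivity)

end main

/-- **The primary components of `X - 1`, `X + 1`.** -/
theorem pm_le : ∃ A : ℝ, 0 < A ∧ ∀ (K V : Type) [Field K] [Finite K] [AddCommGroup V] [Module K V] [Finite V] (X : Type)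
    [Group X] [Finite X] (τ : X →* (V →ₗ[K] V)) (c : ℕ → ℝ) (c1 : ℝ), 1 ≤ c1 →
    (∀ D, 2 * D < finrank K V → c D ≤ c1) → (∀ D, c D ≤ c1 * Nat.card K) → ELpm τ c → 16 ≤ finrank K V →
    ∀ a : K, a = 1 ∨ a = -1 →
    (∑ᶠ x : X, (finrank K (⨆ j : ℕ, LinearMap.ker (aeval (τ x) ((Polynomial.X - C a) ^ j)) : Submodule K V) : ℝ)) ≤
      A * c1 * Nat.card X := by
  refine ⟨36, by norm_num, ?_⟩
  intro K V _ _ _ _ _ X _ _ τ c c1 h1 hcs hcl hel hn a ha
  have := Fintype.ofFinite X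
  rw [finsum_eq_sum_of_fintype]
  change ∑ x : X, ((finrank K (prim (τ x) a) : ℕ) : ℝ) ≤ _
  have h2 : ∑ x : X, ((finrank K (prim (τ x) a) : ℕ) : ℝ) =
      ∑ j ∈ Finset.range (finrank K V), ∑ x : X, ((dk (τ x) a (j + 1) - dk (τ x) a j : ℕ) : ℝ) := by
    rw [Finset.sum_comm]
    refine Finset.sum_congr rfl fun x _ => ?_
    rw [finrank_prim]
    push_cast
    rfl
  obtain ⟨m, hm⟩ := Nat.exists_eq_add_of_le (show 4 ≤ finrank K V by omega)
  have hX : (0 : ℝ) ≤ c1 * Nat.card X := mul_nonneg (by linarith) (Nat.cast_nonneg _)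
  rw [h2, hm, Finset.sum_range_add]
  have h3 : ∑ j ∈ Finset.range 4, ∑ x : X, ((dk (τ x) a (j + 1) - dk (τ x) a j : ℕ) : ℝ) ≤ 24 * c1 * Nat.card X := by
    refine (Finset.sum_le_sum fun j hj => part_small τ h1 hel ha (hcs (j + 1) ?_)).trans ?_
    · have := Finset.mem_range.1 hj
      omega
    · rw [Finset.sum_const, Finset.card_range]
      simp only [nsmul_eq_mul]
      push_cast
      linarith
  have h4 : ∑ i ∈ Finset.range m, ∑ x : X, ((dk (τ x) a (4 + i + 1) - dk (τ x) a (4 + i) : ℕ) : ℝ) ≤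
      12 * c1 * Nat.card X := by
    refine (Finset.sum_le_sum fun i _ => part_large (i := i) τ h1 hel ha ?_).trans ?_
    · by_cases h5 : 2 * (i + 5) < finrank K V
      · exact Or.inl (hcs _ h5)
      · exact Or.inr ⟨by omega, hcl _⟩
    · have h5 : ∑ i ∈ Finset.range m, 3 * c1 * (5 / 7 : ℝ) ^ i * Nat.card X =
          3 * (c1 * Nat.card X) * ∑ i ∈ Finset.range m, (5 / 7 : ℝ) ^ i := by
        rw [Finset.mul_sum]
        exact Finset.sum_congr rfl fun i _ => by ring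
      rw [h5]
      have h6 := geom_le m
      have h7 : (0 : ℝ) ≤ (5 / 7 : ℝ) ^ m := by positivity
      have h8 : ∑ i ∈ Finset.range m, (5 / 7 : ℝ) ^ i ≤ 4 := by linarith
      calc 3 * (c1 * Nat.card X) * ∑ i ∈ Finset.range m, (5 / 7 : ℝ) ^ i ≤ 3 * (c1 * Nat.card X) * 4 :=
            mul_le_mul_of_nonneg_left h8 (by linarith)
        _ = _ := by ring
  linarith

/-! ### orthogonal groups of bounded rank -/

theorem markov {X : Type} [Fintype X] (P : X → Prop) (f : X → ℝ) (hf : ∀ x, 0 ≤ f x) (m : ℝ)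
    (h : ∀ x, P x → m ≤ f x) : (Nat.card {x : X // P x} : ℝ) * m ≤ ∑ x, f x := by
  classical
  have h1 : (Nat.card {x : X // P x} : ℝ) * m = ∑ x ∈ Finset.univ.filter P, m := by
    rw [Finset.sum_const, nsmul_eq_mul, Nat.card_eq_fintype_card, Fintype.card_subtype]
  rw [h1]
  calc ∑ x ∈ Finset.univ.filter P, m ≤ ∑ x ∈ Finset.univ.filter P, f x :=
        Finset.sum_le_sum fun x hx => h x (Finset.mem_filter.1 hx).2
    _ ≤ ∑ x, f x := Finset.sum_le_sum_of_subset_of_nonneg (Finset.filter_subset _ _) fun x _ _ => hf x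

theorem card_imp {X : Type} [Finite X] {P R : X → Prop} (h : ∀ x, P x → R x) :
    Nat.card {x : X // P x} ≤ Nat.card {x : X // R x} :=
  Nat.card_le_card_of_injective (Subtype.map id h) (Subtype.map_injective h Function.injective_id)

theorem card_or {X : Type} [Finite X] (P R : X → Prop) :
    Nat.card {x : X // P x ∨ R x} ≤ Nat.card {x : X // P x} + Nat.card {x : X // R x} := by
  classical
  have := Fintype.ofFinite X
  rw [Nat.card_eq_fintype_card, Nat.card_eq_fintype_card, Nat.card_eq_fintype_card]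
  exact Fintype.card_subtype_or _ _

section orth

variable {K V : Type} [Field K] [Finite K] [AddCommGroup V] [Module K V] [Finite V]

omit [Finite K] in
/-- stabilisation -/
theorem finrank_prim_of_eq (y : V →ₗ[K] V) (a : K) {j : ℕ} (h : dk y a (j + 1) = dk y a j) :
    finrank K (prim y a) = dk y a j := by
  have hfd := finDim (K := K) (V := V)
  have h1 : LinearMap.ker (aeval y (X - C a) ^ j) = LinearMap.ker (aeval y (X - C a) ^ (j + 1)) :=
    Submodule.eq_of_le_of_finrank_eq (ker_pow_mono _ (Nat.le_succ j)) h.symm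
  have h2 : ∀ m, LinearMap.ker (aeval y (X - C a) ^ j) = LinearMap.ker (aeval y (X - C a) ^ (j + m)) :=
    fun m => Module.End.ker_pow_constant h1 m
  have h3 : prim y a = LinearMap.ker (aeval y (X - C a) ^ j) := by
    apply le_antisymm
    · refine iSup_le fun i => ?_
      rw [map_pow]
      rcases le_total i j with h | h
      · exact ker_pow_mono _ h
      · obtain ⟨m, rfl⟩ := Nat.exists_eq_add_of_le h
        rw [← h2 m]
    · refine le_trans ?_ (le_iSup _ j)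
      rw [map_pow]
  rw [h3]
  rfl

omit [Finite K] in
theorem dk_two (y : V →ₗ[K] V) (a : K) : dk y a 2 ≤ 2 * dk y a 1 := by
  have hfd := finDim (K := K) (V := V)
  obtain ⟨N, hN⟩ : ∃ N, N = aeval y (X - C a) := ⟨_, rfl⟩
  unfold dk
  rw [← hN, pow_one]
  let g : LinearMap.ker (N ^ 2) →ₗ[K] V := N.comp (Submodule.subtype _)
  have h1 := LinearMap.finrank_range_add_finrank_ker g
  have h2 : LinearMap.range g ≤ LinearMap.ker N := by
    rintro _ ⟨⟨v, hv⟩, rfl⟩
    rw [LinearMap.mem_ker, pow_two, Module.End.mul_apply] at hv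
    exact hv
  have h3 : finrank K (LinearMap.range g) ≤ finrank K (LinearMap.ker N) := Submodule.finrank_mono h2
  have h4 : finrank K (LinearMap.ker g) ≤ finrank K (LinearMap.ker N) := by
    let e : LinearMap.ker g →ₗ[K] LinearMap.ker N :=
      ((Submodule.subtype _).comp (Submodule.subtype _)).codRestrict _ (fun v => v.2)
    refine LinearMap.finrank_le_finrank_of_injective (f := e) ?_
    intro v w h
    have := congrArg Subtype.val h
    exact Subtype.ext (Subtype.ext this)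
  omega

omit [Finite K] [Finite V] in
theorem smallP_le (y : V →ₗ[K] V) : smallP y (Sml 1 (Polynomial.X ^ 2 - 1)) ≤ prim y 1 ⊔ prim y (-1) := by
  refine iSup₂_le fun f hf => ?_
  obtain ⟨⟨hm, hirr, -⟩, hd⟩ := hf
  have hd' : f ∣ Polynomial.X ^ 2 - 1 := by
    rcases hd with hd | hd
    · exfalso
      have h1 : f.natDegree = 0 := by omega
      rw [Polynomial.Monic.natDegree_eq_zero hm] at h1
      rw [h1] at hirr
      exact hirr.not_isUnit isUnit_one
    · exact hd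
  have h1 : (Polynomial.X ^ 2 - 1 : K[X]) = (X - C 1) * (X - C (-1)) := by
    rw [C_neg, C_1]
    ring
  rw [h1] at hd'
  rcases hirr.prime.dvd_or_dvd hd' with h | h
  · have h2 : f = X - C 1 := by
      apply eq_of_monic_of_associated hm (monic_X_sub_C 1)
      exact hirr.associated_of_dvd (irreducible_X_sub_C 1) h
    rw [h2]
    exact le_sup_left
  · have h2 : f = X - C (-1) := by
      apply eq_of_monic_of_associated hm (monic_X_sub_C (-1))
      exact hirr.associated_of_dvd (irreducible_X_sub_C (-1)) h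
    rw [h2]
    exact le_sup_right

variable {X : Type} [Group X] [Finite X]

/-- the number of `x` with a large kernel -/
theorem card_bad (τ : X →* (V →ₗ[K] V)) (a : K) (j l : ℕ) :
    (Nat.card {x : X // l ≤ dk (τ x) a (j + 1) - dk (τ x) a j} : ℝ) * ((Nat.card K : ℝ) ^ j * ((Nat.card K : ℝ) ^ l - 1)) ≤
      (Nat.card {p : X × V // Ann (τ p.1) p.2 ((Polynomial.X - C a) ^ (j + 1))} : ℝ) := by
  have := Fintype.ofFinite X
  rw [card_pairs]
  refine markov _ _ (fun x => Nat.cast_nonneg _) _ (fun x hx => ?_)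
  refine le_trans ?_ (count_ge (τ x) a j)
  have h1 : (1 : ℝ) ≤ Nat.card K := by exact_mod_cast Nat.card_pos (α := K)
  have h2 : (Nat.card K : ℝ) ^ l ≤ (Nat.card K : ℝ) ^ (dk (τ x) a (j + 1) - dk (τ x) a j) := pow_le_pow_right₀ h1 hx
  exact mul_le_mul_of_nonneg_left (by linarith) (by positivity)

theorem bad_one (τ : X →* (V →ₗ[K] V)) {c : ℝ} (hc : 1 ≤ c) (h : ELsh τ c) {a : K} (ha : a = 1 ∨ a = -1) :
    (Nat.card {x : X // 2 ≤ dk (τ x) a 1 - dk (τ x) a 0} : ℝ) ≤ 2 * (c / Nat.card K * Nat.card X) := by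
  have h1 := (card_bad τ a 0 2)
  rw [zero_add, pow_one, pow_zero, one_mul] at h1
  replace h1 := h1.trans (h a ha).1
  obtain ⟨Q, hQ⟩ : ∃ Q : ℝ, Q = Nat.card K := ⟨_, rfl⟩
  have hQ2 : 2 ≤ Q := by
    rw [hQ]
    exact_mod_cast Finite.one_lt_card (α := K)
  have hX : (0 : ℝ) ≤ Nat.card X := Nat.cast_nonneg _
  rw [← hQ] at h1 ⊢
  obtain ⟨b, hb⟩ : ∃ b : ℝ, b = Nat.card {x : X // 2 ≤ dk (τ x) a 1 - dk (τ x) a 0} := ⟨_, rfl⟩
  rw [← hb] at h1 ⊢
  have h2 : b * (Q ^ 2 - 1) ≤ (2 * (c / Q * Nat.card X)) * (Q ^ 2 - 1) := by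
    refine h1.trans ?_
    have h3 : (2 * (c / Q * Nat.card X)) * (Q ^ 2 - 1) = (c * Nat.card X) * (2 * (Q ^ 2 - 1) / Q) := by
      field_simp
    rw [h3, mul_assoc, mul_comm Q, ← mul_assoc]
    apply mul_le_mul_of_nonneg_left _ (mul_nonneg (by linarith) hX)
    rw [le_div_iff₀ (by linarith)]
    nlinarith
  exact le_of_mul_le_mul_right h2 (by nlinarith)

theorem bad_two (τ : X →* (V →ₗ[K] V)) {c : ℝ} (hc : 1 ≤ c) (h : ELsh τ c) {a : K} (ha : a = 1 ∨ a = -1)
    (h2 : (2 : K) ≠ 0) :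
    (Nat.card {x : X // 1 ≤ dk (τ x) a 2 - dk (τ x) a 1} : ℝ) ≤ 2 * (c / Nat.card K * Nat.card X) := by
  have h1 := (card_bad τ a 1 1).trans ((h a ha).2.2 h2)
  obtain ⟨Q, hQ⟩ : ∃ Q : ℝ, Q = Nat.card K := ⟨_, rfl⟩
  have hQ2 : 2 ≤ Q := by
    rw [hQ]
    exact_mod_cast Finite.one_lt_card (α := K)
  have hX : (0 : ℝ) ≤ Nat.card X := Nat.cast_nonneg _
  rw [← hQ] at h1 ⊢
  change (Nat.card {x : X // 1 ≤ dk (τ x) a 2 - dk (τ x) a 1} : ℝ) * _ ≤ _ at h1
  obtain ⟨b, hb⟩ : ∃ b : ℝ, b = Nat.card {x : X // 1 ≤ dk (τ x) a 2 - dk (τ x) a 1} := ⟨_, rfl⟩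
  rw [← hb] at h1 ⊢
  rw [pow_one] at h1
  have h2 : b * (Q * (Q - 1)) ≤ (2 * (c / Q * Nat.card X)) * (Q * (Q - 1)) := by
    refine h1.trans ?_
    have h3 : (2 * (c / Q * Nat.card X)) * (Q * (Q - 1)) = (c * Nat.card X) * (2 * (Q - 1)) := by
      field_simp
    rw [h3, mul_assoc, mul_comm Q, ← mul_assoc]
    exact mul_le_mul_of_nonneg_left (by linarith) (mul_nonneg (by linarith) hX)
  exact le_of_mul_le_mul_right h2 (by nlinarith)

theorem bad_three (τ : X →* (V →ₗ[K] V)) {c : ℝ} (hc : 1 ≤ c) (h : ELsh τ c) {a : K} (ha : a = 1 ∨ a = -1) :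
    (Nat.card {x : X // 1 ≤ dk (τ x) a 3 - dk (τ x) a 2} : ℝ) ≤ 2 * (c / Nat.card K * Nat.card X) := by
  have h1 := (card_bad τ a 2 1).trans (h a ha).2.1
  obtain ⟨Q, hQ⟩ : ∃ Q : ℝ, Q = Nat.card K := ⟨_, rfl⟩
  have hQ2 : 2 ≤ Q := by
    rw [hQ]
    exact_mod_cast Finite.one_lt_card (α := K)
  have hX : (0 : ℝ) ≤ Nat.card X := Nat.cast_nonneg _
  rw [← hQ] at h1 ⊢
  change (Nat.card {x : X // 1 ≤ dk (τ x) a 3 - dk (τ x) a 2} : ℝ) * _ ≤ _ at h1
  obtain ⟨b, hb⟩ : ∃ b : ℝ, b = Nat.card {x : X // 1 ≤ dk (τ x) a 3 - dk (τ x) a 2} := ⟨_, rfl⟩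
  rw [← hb] at h1 ⊢
  rw [pow_one] at h1
  have h2 : b * (Q ^ 2 * (Q - 1)) ≤ (2 * (c / Q * Nat.card X)) * (Q ^ 2 * (Q - 1)) := by
    refine h1.trans ?_
    have h3 : (2 * (c / Q * Nat.card X)) * (Q ^ 2 * (Q - 1)) = (c * Nat.card X) * (2 * (Q - 1) * Q) := by
      field_simp
    rw [h3, mul_assoc, mul_comm (Q ^ 2), ← mul_assoc]
    apply mul_le_mul_of_nonneg_left _ (mul_nonneg (by linarith) hX)
    nlinarith
  exact le_of_mul_le_mul_right h2 (by nlinarith)

omit [Finite K] in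
theorem dim_two (y : V →ₗ[K] V) (a : K) (h : 2 ≤ finrank K (prim y a)) :
    2 ≤ dk y a 1 - dk y a 0 ∨ 1 ≤ dk y a 2 - dk y a 1 := by
  by_contra hno
  push Not at hno
  have h0 := dk_zero y a
  have h1 := dk_mono y a (show 1 ≤ 2 by norm_num)
  have h2 := finrank_prim_of_eq y a (j := 1) (by change dk y a 2 = dk y a 1; omega)
  omega

omit [Finite K] in
theorem dim_three (y : V →ₗ[K] V) (a : K) (h : 3 ≤ finrank K (prim y a)) :
    2 ≤ dk y a 1 - dk y a 0 ∨ 1 ≤ dk y a 3 - dk y a 2 := by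
  by_contra hno
  push Not at hno
  have h0 := dk_zero y a
  have h1 := dk_mono y a (show 2 ≤ 3 by norm_num)
  have h2 := finrank_prim_of_eq y a (j := 2) (by change dk y a 3 = dk y a 2; omega)
  have h3 := dk_two y a
  omega

end orth

theorem small_o : ∃ A : ℝ, 0 < A ∧ ∀ (K V : Type) [Field K] [Finite K] [AddCommGroup V] [Module K V] [Finite V] (X : Type) [Group X]
    [Finite X] (τ : X →* (V →ₗ[K] V)) (c : ℝ), 1 ≤ c → ELsh τ c →
    (Nat.card {x : X // 2 < finrank K (smallP (τ x) (Sml 1 (Polynomial.X ^ 2 - 1)))} : ℝ) ≤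
      A * c / Nat.card K * Nat.card X := by
  refine ⟨8, by norm_num, ?_⟩
  intro K V _ _ _ _ _ X _ _ τ c hc h
  have hfd := finDim (K := K) (V := V)
  have hgoal : (8 : ℝ) * c / Nat.card K * Nat.card X = 8 * (c / Nat.card K * Nat.card X) := by ring
  rw [hgoal]
  obtain ⟨E, hE⟩ : ∃ E : ℝ, E = c / Nat.card K * Nat.card X := ⟨_, rfl⟩
  rw [← hE]
  have hE0 : 0 ≤ E := by
    rw [hE]
    positivity
  by_cases h2 : (2 : K) = 0
  · have h3 : (-1 : K) = 1 := by
      have : (1 : K) + 1 = 0 := by rw [one_add_one_eq_two]; exact h2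
      exact neg_eq_of_add_eq_zero_left this
    have h4 : ∀ x : X, 2 < finrank K (smallP (τ x) (Sml 1 (Polynomial.X ^ 2 - 1))) →
        2 ≤ dk (τ x) (1 : K) 1 - dk (τ x) 1 0 ∨ 1 ≤ dk (τ x) (1 : K) 3 - dk (τ x) 1 2 := by
      intro x hx
      apply dim_three
      have h5 := Submodule.finrank_mono (smallP_le (τ x))
      rw [h3, sup_idem] at h5
      omega
    have h5 := (card_imp h4).trans (card_or _ _)
    have h6 := bad_one τ hc h (a := 1) (Or.inl rfl)
    have h7 := bad_three τ hc h (a := 1) (Or.inl rfl)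
    rw [← hE] at h6 h7
    have h8 : (Nat.card {x : X // 2 < finrank K (smallP (τ x) (Sml 1 (Polynomial.X ^ 2 - 1)))} : ℝ) ≤
        Nat.card {x : X // 2 ≤ dk (τ x) (1 : K) 1 - dk (τ x) 1 0} +
        Nat.card {x : X // 1 ≤ dk (τ x) (1 : K) 3 - dk (τ x) 1 2} := by exact_mod_cast h5
    linarith
  · have h4 : ∀ x : X, 2 < finrank K (smallP (τ x) (Sml 1 (Polynomial.X ^ 2 - 1))) →
        (2 ≤ dk (τ x) (1 : K) 1 - dk (τ x) 1 0 ∨ 1 ≤ dk (τ x) (1 : K) 2 - dk (τ x) 1 1) ∨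
        (2 ≤ dk (τ x) (-1 : K) 1 - dk (τ x) (-1) 0 ∨ 1 ≤ dk (τ x) (-1 : K) 2 - dk (τ x) (-1) 1) := by
      intro x hx
      have h5 := Submodule.finrank_mono (smallP_le (τ x))
      have h6 := Submodule.finrank_add_le_finrank_add_finrank (prim (τ x) (1 : K)) (prim (τ x) (-1))
      have h7 : 2 ≤ finrank K (prim (τ x) (1 : K)) ∨ 2 ≤ finrank K (prim (τ x) (-1 : K)) := by omega
      rcases h7 with h7 | h7
      · exact Or.inl (dim_two _ _ h7)
      · exact Or.inr (dim_two _ _ h7)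
    have h5 := (card_imp h4).trans ((card_or _ _).trans (Nat.add_le_add (card_or _ _) (card_or _ _)))
    have h6 := bad_one τ hc h (a := 1) (Or.inl rfl)
    have h7 := bad_two τ hc h (a := 1) (Or.inl rfl) h2
    have h6' := bad_one τ hc h (a := -1) (Or.inr rfl)
    have h7' := bad_two τ hc h (a := -1) (Or.inr rfl) h2
    rw [← hE] at h6 h7 h6' h7'
    have h8 : (Nat.card {x : X // 2 < finrank K (smallP (τ x) (Sml 1 (Polynomial.X ^ 2 - 1)))} : ℝ) ≤
        (Nat.card {x : X // 2 ≤ dk (τ x) (1 : K) 1 - dk (τ x) 1 0} +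
        Nat.card {x : X // 1 ≤ dk (τ x) (1 : K) 2 - dk (τ x) 1 1}) +
        (Nat.card {x : X // 2 ≤ dk (τ x) (-1 : K) 1 - dk (τ x) (-1) 0} +
        Nat.card {x : X // 1 ≤ dk (τ x) (-1 : K) 2 - dk (τ x) (-1) 1}) := by exact_mod_cast h5
    linarith

end Cfsg.Agent.H75.RG
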